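import Mathlib
import Cfsg.Agent.H84.Shult.Arith
import Cfsg.Agent.H84.Shult.Count
import Cfsg.Agent.H84.FpfFour
import Cfsg.Agent.H21.Fpf

/-! The counting bound for the commutator pairing of a class two group at a weight of its centre. -/

set_option autoImplicit false

namespace Cfsg.Agent.H84.Shult

open Cfsg.Agent.H20.TB
open scoped commutatorElement

variable {k : Type*} [Field k] {Q : Type*} [Group Q] {W : Type*} [AddCommGroup W] [Module k W]

theorem comm_conj (hcomZ : ∀ a b : Q, ⁅a, b⁆ ∈ Subgroup.center Q) (a b x : Q) :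
    ⁅a * b, x⁆ = ⁅a, x⁆ * ⁅b, x⁆ := by
  have h1 := Subgroup.mem_center_iff.1 (hcomZ b x)
  calc ⁅a * b, x⁆ = a * ⁅b, x⁆ * a⁻¹ * ⁅a, x⁆ := by simp only [commutatorElement_def]; group
    _ = ⁅a, x⁆ * ⁅b, x⁆ := by rw [h1 a, mul_inv_cancel_right, h1]

/-- The weights of the centre, with their periods and the bound on the radical quotient. -/
theorem pairing_count [IsAlgClosed k] [FiniteDimensional k W] [Finite Q] {p n : ℕ} [Fact p.Prime]
    (hpk : (p : k) ≠ 0) (hQk : (Nat.card Q : k) ≠ 0)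
    (hcomZ : ∀ a b : Q, ⁅a, b⁆ ∈ Subgroup.center Q) (σ : MulAut Q) (hσ : σ ^ p ^ (n + 1) = 1)
    (ρ : Q →* Module.End k W) (T : Module.End k W) (hT : T ^ p ^ (n + 1) = 1)
    (hc : ∀ y, T * ρ y = ρ (σ y) * T)
    (hsmall : (spec (p ^ (n + 1)) T).card < p ^ (n + 1))
    (χ : Subgroup.center Q → k) (hχ : weight (fun z : Subgroup.center Q => ρ (z : Q)) χ ≠ ⊥) :
    ∃ (j L : ℕ) (R : Subgroup Q), j ≤ n ∧ p ^ j * L ≤ (spec (p ^ (n + 1)) T).card ∧
      (∀ y, y ∈ R ↔ ∀ x, χ ⟨⁅y, x⁆, hcomZ y x⟩ = 1) ∧ (∀ y ∈ R, (σ ^ p ^ j) y ∈ R) ∧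
      (∀ a b x, χ ⟨⁅a * b, x⁆, hcomZ _ _⟩ = χ ⟨⁅a, x⁆, hcomZ _ _⟩ * χ ⟨⁅b, x⁆, hcomZ _ _⟩) ∧
      (∀ a b (z : Subgroup.center Q), (z : Q) = ⁅a, b⁆ →
        χ ⟨⁅(σ ^ p ^ n) a, (σ ^ p ^ n) b⁆, hcomZ _ _⟩ = χ z) ∧
      ∀ (S : Subgroup Q), R ≤ S → (∀ y ∈ S, (σ ^ p ^ j) y ∈ S) →
        (∀ y ∈ S, y ∉ R → ∃ x ∈ S, χ ⟨⁅y, x⁆, hcomZ y x⟩ ≠ 1) →
        ∀ Rep : Finset Q, (∀ y ∈ S, ∃ u ∈ Rep, u ∈ S ∧ ∃ i : ℕ,
          (((σ ^ p ^ j) ^ i) u)⁻¹ * y ∈ R) →
        ∃ d, R.relIndex S = d * d ∧ d * d ≤ L * Rep.card ∧ d ≤ Rep.card := by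
  classical
  have hp := (Fact.out : p.Prime)
  have hZσ : ∀ z ∈ (Subgroup.center Q), σ z ∈ (Subgroup.center Q) := fun z hz =>
    Subgroup.characteristic_iff_map_le.1 inferInstance σ ⟨z, hz, rfl⟩
  obtain ⟨sZ, hsZ⟩ := exists_restrict σ (Subgroup.center Q) hZσ
  have hsZp := restrict_pow_apply σ sZ hsZ
  have hperm : ∀ (a : ℕ) (z : (Subgroup.center Q)), ((MulAut.toPerm (Subgroup.center Q) sZ) ^ a) z = (sZ ^ a) z := fun a z => by
    rw [← map_pow]; rfl
  obtain ⟨j₁, hj₁, hχj, hχτ, hVT, hT₁, hL₁⟩ := exists_period_spec (fun z : (Subgroup.center Q) => ρ (z : Q))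
    (MulAut.toPerm (Subgroup.center Q) sZ) T hpk hT hsmall (fun z => by
      show T * ρ (z : Q) = ρ ((sZ z : (Subgroup.center Q)) : Q) * T
      rw [hsZ, hc])
    (Equiv.ext fun z => by
      rw [hperm, Equiv.Perm.one_apply]
      exact Subtype.ext (by rw [hsZp, hσ]; rfl)) χ hχ
  simp only [hperm] at hχj hχτ
  obtain ⟨w₀, hw₀', hw₀ne⟩ := Submodule.exists_mem_ne_zero_of_ne_bot hχ
  have hw₀ : ∀ z : (Subgroup.center Q), ρ (z : Q) w₀ = χ z • w₀ := hw₀'
  have hχmul : ∀ a b : (Subgroup.center Q), χ (a * b) = χ a * χ b := fun a b => smul_left_injective k hw₀ne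
    (show χ (a * b) • w₀ = (χ a * χ b) • w₀ by
      rw [← hw₀ (a * b), Subgroup.coe_mul, map_mul, Module.End.mul_apply, hw₀ b, map_smul, hw₀ a,
        smul_smul, mul_comm])
  have hχ1 : χ 1 = 1 := smul_left_injective k hw₀ne
    (show χ 1 • w₀ = (1 : k) • w₀ by rw [← hw₀ 1, Subgroup.coe_one, map_one, one_smul]; rfl)
  let cz : Q → Q → (Subgroup.center Q) := fun a b => ⟨⁅a, b⁆, hcomZ a b⟩
  have hczl : ∀ a b x, cz (a * b) x = cz a x * cz b x :=
    fun a b x => Subtype.ext (comm_conj hcomZ a b x)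
  have hczσ : ∀ (a : ℕ) x y, cz ((σ ^ a) x) ((σ ^ a) y) = (sZ ^ a) (cz x y) := fun a x y =>
    Subtype.ext (by
      rw [hsZp]
      show ⁅(σ ^ a) x, (σ ^ a) y⁆ = (σ ^ a) ⁅x, y⁆
      rw [map_commutatorElement])
  let R : Subgroup Q :=
    { carrier := {y | ∀ x, χ (cz y x) = 1}
      one_mem' := fun x => by
        rw [show cz 1 x = 1 from Subtype.ext (commutatorElement_one_left x), hχ1]
      mul_mem' := fun {a b} ha hb x => by rw [hczl, hχmul, ha x, hb x, mul_one]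
      inv_mem' := fun {a} ha x => by
        have h := hczl a⁻¹ a x
        rw [inv_mul_cancel, show cz 1 x = 1 from Subtype.ext (commutatorElement_one_left x)] at h
        have h2 := congrArg χ h
        rw [hχ1, hχmul, ha x, mul_one] at h2
        exact h2.symm }
  have hZR : (Subgroup.center Q) ≤ R := fun z hz x => by
    rw [show cz z x = 1 from Subtype.ext (commutatorElement_eq_one_iff_mul_comm.2
      (Subgroup.mem_center_iff.1 hz x).symm), hχ1]
  haveI hRn : R.Normal := ⟨fun r hr g => by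
    have h : ⁅g, r⁆ * r ∈ R := mul_mem (hZR (hcomZ g r)) hr
    simpa [commutatorElement_def] using h⟩
  set σ₁ := σ ^ p ^ j₁ with hσ₁
  have hRσ₁ : ∀ y ∈ R, σ₁ y ∈ R := fun y hy x => by
    obtain ⟨x', rfl⟩ := σ₁.surjective x
    rw [hσ₁, hczσ, hχj, hy x']
  obtain ⟨sR, hsR⟩ := exists_restrict σ₁ R hRσ₁
  have hsRp := restrict_pow_apply σ₁ sR hsR
  have hTpow : ∀ (a : ℕ) (y : Q), T ^ a * ρ y = ρ ((σ ^ a) y) * T ^ a := by
    intro a
    induction a with
    | zero => intro y; simp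
    | succ a ih =>
      intro y
      rw [pow_succ', mul_assoc, ih, ← mul_assoc, hc, mul_assoc, pow_succ', MulAut.mul_apply]
  -- the second weight
  set V := weight (fun z : (Subgroup.center Q) => ρ (z : Q)) χ with hV
  have hVρ : ∀ y, ∀ v ∈ V, ρ y v ∈ V := fun y v hv z => by
    show ρ (z : Q) (ρ y v) = χ z • ρ y v
    rw [← Module.End.mul_apply, ← map_mul, ← Subgroup.mem_center_iff.1 z.2 y, map_mul,
      Module.End.mul_apply, hv z, map_smul]
  haveI : Nontrivial V := Submodule.nontrivial_iff_ne_bot.2 hχ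
  have hcommR : ∀ r ∈ R, ∀ x : Q, ∀ v ∈ V, ρ r (ρ x v) = ρ x (ρ r v) := by
    intro r hr x v hv
    have h1 : r * x = (cz r x : Q) * (x * r) := by
      show r * x = ⁅r, x⁆ * (x * r)
      simp only [commutatorElement_def]; group
    rw [← Module.End.mul_apply, ← map_mul, h1, map_mul, Module.End.mul_apply,
      show ρ (cz r x : Q) (ρ (x * r) v) = χ (cz r x) • ρ (x * r) v from hVρ _ v hv (cz r x),
      hr x, one_smul, map_mul, Module.End.mul_apply]
  let fR : R → Module.End k V := fun r => (ρ (r : Q)).restrict (hVρ _)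
  obtain ⟨ψ, hψ⟩ := exists_weight fR (fun a b => LinearMap.ext fun v =>
    Subtype.ext (hcommR a a.2 b v v.2))
  have hn₁ : n + 1 - j₁ = n - j₁ + 1 := by omega
  rw [hn₁] at hT₁ hL₁
  have hsmall₁ : (spec (p ^ (n - j₁ + 1)) ((T ^ p ^ j₁).restrict hVT)).card < p ^ (n - j₁ + 1) := by
    refine Nat.lt_of_mul_lt_mul_left (a := p ^ j₁) (hL₁.trans_lt ?_)
    rw [← pow_add, show j₁ + (n - j₁ + 1) = n + 1 by omega]
    exact hsmall
  have hpermR : ∀ (a : ℕ) (r : R), ((MulAut.toPerm R sR) ^ a) r = (sR ^ a) r := fun a r => by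
    rw [← map_pow]; rfl
  obtain ⟨j₂, hj₂, -, -, hWT, hT₂, hL₂⟩ := exists_period_spec fR (MulAut.toPerm R sR)
    ((T ^ p ^ j₁).restrict hVT) hpk hT₁ hsmall₁
    (fun r => LinearMap.ext fun v => Subtype.ext (by
      show (T ^ p ^ j₁) (ρ (r : Q) (v : W)) = ρ ((sR r : R) : Q) ((T ^ p ^ j₁) (v : W))
      rw [← Module.End.mul_apply, hTpow, hsR]; rfl))
    (Equiv.ext fun r => by
      rw [hpermR, Equiv.Perm.one_apply]
      exact Subtype.ext (by
        rw [hsRp, hσ₁, ← pow_mul, ← pow_add, show j₁ + (n - j₁ + 1) = n + 1 by omega, hσ]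
        rfl)) ψ hψ
  set W1 := weight fR ψ with hW1
  haveI : Nontrivial W1 := Submodule.nontrivial_iff_ne_bot.2 hψ
  have hW1ρ : ∀ y, ∀ v ∈ W1, (ρ y).restrict (hVρ y) v ∈ W1 := fun y v hv r => by
    refine Subtype.ext ((hcommR r r.2 y v v.2).trans ?_)
    rw [show ρ (r : Q) (v : W) = ψ r • (v : W) from congrArg Subtype.val (hv r), map_smul]
    rfl
  let ρ1 : Q →* Module.End k W1 :=
    { toFun := fun y => ((ρ y).restrict (hVρ y)).restrict (hW1ρ y)
      map_one' := LinearMap.ext fun v => Subtype.ext (Subtype.ext (by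
        show ρ 1 ((v : V) : W) = _; rw [map_one]; rfl))
      map_mul' := fun a b => LinearMap.ext fun v => Subtype.ext (Subtype.ext (by
        show ρ (a * b) ((v : V) : W) = _; rw [map_mul]; rfl)) }
  have hρ1R : ∀ r : R, ρ1 (r : Q) = ψ r • 1 := fun r =>
    LinearMap.ext fun v => Subtype.ext ((v.2 : (v : V) ∈ W1) r)
  set x1 := (((T ^ p ^ j₁).restrict hVT) ^ p ^ j₂).restrict hWT with hx1
  set σ₂ := σ ^ p ^ (j₁ + j₂) with hσ₂
  have hσ₁₂ : σ₁ ^ p ^ j₂ = σ₂ := by rw [hσ₁, hσ₂, ← pow_mul, ← pow_add]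
  have hx1v : ∀ v : W1, (((x1 v : W1) : V) : W) = (T ^ p ^ (j₁ + j₂)) ((v : V) : W) := fun v => by
    rw [hx1, LinearMap.restrict_coe_apply, Module.End.pow_restrict, LinearMap.restrict_coe_apply,
      ← pow_mul, ← pow_add]
  refine ⟨j₁ + j₂, (spec (p ^ (n - j₁ + 1 - j₂)) x1).card, R, by omega, ?_, fun y => Iff.rfl,
    fun y hy => ?_, fun a b x => ?_, fun a b z hz => ?_, ?_⟩
  · rw [pow_add, mul_assoc]
    exact (Nat.mul_le_mul_left _ hL₂).trans hL₁
  · rw [← hσ₂, ← hσ₁₂, ← hsRp _ ⟨y, hy⟩]; exact SetLike.coe_mem _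
  · show χ (cz (a * b) x) = χ (cz a x) * χ (cz b x)
    rw [hczl, hχmul]
  · show χ (cz ((σ ^ p ^ n) a) ((σ ^ p ^ n) b)) = χ z
    rw [hczσ, hχτ, show z = cz a b from Subtype.ext hz]
  intro S hRS hSσ hnondeg Rep hRep
  -- the projective family on `S / R`
  set RS := R.subgroupOf S with hRS'
  haveI : RS.Normal := by rw [hRS']; infer_instance
  letI : CommGroup (S ⧸ RS) :=
    { (inferInstance : Group (S ⧸ RS)) with
      mul_comm := fun a b => by
        induction a using QuotientGroup.induction_on with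
        | _ a =>
          induction b using QuotientGroup.induction_on with
          | _ b =>
            rw [← QuotientGroup.mk_mul, ← QuotientGroup.mk_mul, QuotientGroup.eq]
            have h := hZR (hcomZ (b : Q)⁻¹ (a : Q)⁻¹)
            rw [hRS', Subgroup.mem_subgroupOf]
            simpa [commutatorElement_def, mul_assoc] using h }
  haveI : Fintype (S ⧸ RS) := Fintype.ofFinite _
  let u1 : Q →* (Module.End k W1)ˣ := ρ1.toHomUnits
  let fam : S ⧸ RS → (Module.End k W1)ˣ := fun t => u1 ((Quotient.out t : S) : Q)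
  have hfam : ∀ y : S, ∃ c : k, ρ1 (y : Q) = c • (fam (y : S ⧸ RS) : Module.End k W1) := by
    intro y
    obtain ⟨r, hr⟩ := QuotientGroup.mk_out_eq_mul RS y
    have hrR : ((r : S) : Q) ∈ R := r.2
    refine ⟨ψ ⟨_, inv_mem hrR⟩, ?_⟩
    show ρ1 (y : Q) = ψ ⟨_, inv_mem hrR⟩ • ρ1 ((Quotient.out (y : S ⧸ RS) : S) : Q)
    conv_lhs => rw [show (y : Q) = ((Quotient.out (y : S ⧸ RS) : S) : Q) * ((r : S) : Q)⁻¹ by
      rw [hr, Subgroup.coe_mul, mul_inv_cancel_right]]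
    rw [map_mul, show ρ1 ((r : S) : Q)⁻¹ = _ from hρ1R ⟨_, inv_mem hrR⟩, mul_smul_comm, mul_one]
  have hproj : H20.HH.IsProjective fam := fun a b => by
    obtain ⟨c, hc'⟩ := hfam (Quotient.out a * Quotient.out b)
    refine ⟨c, ?_⟩
    rw [QuotientGroup.mk_mul, QuotientGroup.out_eq', QuotientGroup.out_eq', Subgroup.coe_mul,
      map_mul] at hc'
    exact hc'
  have hnd : H20.HH.IsNondeg fam := by
    intro t ht
    set yo := Quotient.out t with hyo
    have hout : (yo : Q) ∉ R := fun h => ht (by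
      rw [← QuotientGroup.out_eq' t]; exact (QuotientGroup.eq_one_iff _).2 h)
    obtain ⟨x, hxS, hx⟩ := hnondeg _ yo.2 hout
    refine ⟨((⟨x, hxS⟩ : S) : S ⧸ RS), fun hcomm => hx ?_⟩
    obtain ⟨c, hc'⟩ := hfam ⟨x, hxS⟩
    have hc'' : ρ1 x = c • (fam ((⟨x, hxS⟩ : S) : S ⧸ RS) : Module.End k W1) := hc'
    have h1 : ρ1 ((yo : Q) * x) = ρ1 (x * (yo : Q)) := by
      rw [map_mul, map_mul, hc'', mul_smul_comm, smul_mul_assoc,
        show ρ1 (yo : Q) = (fam t : Module.End k W1) from rfl, hcomm]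
    rw [show (yo : Q) * x = (cz (yo : Q) x : Q) * (x * (yo : Q)) by
      show _ = ⁅_, _⁆ * _; simp only [commutatorElement_def]; group, map_mul] at h1
    obtain ⟨v, hv⟩ := exists_ne (0 : W1)
    have h2 : ρ1 (cz (yo : Q) x : Q) = 1 :=
      ((Group.isUnit (x * (yo : Q))).map ρ1).mul_right_cancel (h1.trans (one_mul _).symm)
    have h3 := LinearMap.congr_fun h2 v
    rw [Module.End.one_apply] at h3
    have h4 : ρ (cz (yo : Q) x : Q) ((v : V) : W) = ((v : V) : W) :=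
      congrArg (fun w : W1 => ((w : V) : W)) h3
    have h5 : ρ (cz (yo : Q) x : Q) ((v : V) : W) = χ (cz (yo : Q) x) • ((v : V) : W) :=
      (v : V).2 (cz (yo : Q) x)
    exact smul_left_injective k (fun h => hv (Subtype.ext (Subtype.ext h)))
      (show χ (cz (yo : Q) x) • ((v : V) : W) = (1 : k) • _ by rw [← h5, h4, one_smul])
  obtain ⟨sS, hsS⟩ := exists_restrict σ₂ S hSσ
  have hmap : RS.map (sS : S →* S) = RS :=
    Subgroup.eq_of_le_of_card_ge (by
      rintro _ ⟨y, hy, rfl⟩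
      show ((sS y : S) : Q) ∈ R
      rw [hsS, ← hσ₁₂, ← hsRp _ ⟨(y : Q), hy⟩]; exact SetLike.coe_mem _)
      (by rw [Subgroup.card_map_of_injective sS.injective])
  let sT : S ⧸ RS ≃* S ⧸ RS := QuotientGroup.congr RS RS sS hmap
  have hTk : (Fintype.card (S ⧸ RS) : k) ≠ 0 := by
    intro h0
    obtain ⟨m, hm⟩ := (Subgroup.card_quotient_dvd_card RS).trans S.card_subgroup_dvd_card
    rw [Nat.card_eq_fintype_card (α := S ⧸ RS)] at hm
    exact hQk (by rw [hm, Nat.cast_mul, h0, zero_mul])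
  let Rep' : Finset (S ⧸ RS) :=
    (Rep.subtype (· ∈ S)).image (fun u => ((⟨u.1, u.2⟩ : S) : S ⧸ RS))
  obtain ⟨d, hd, hd1, hd2⟩ := count hproj hnd hTk hpk x1 hT₂ sT
    (fun t => by
      set yo := Quotient.out t with hyo
      obtain ⟨c, hc'⟩ := hfam (sS yo)
      refine ⟨c, ?_⟩
      have e : ((sS yo : S) : S ⧸ RS) = sT t := by
        conv_rhs => rw [← QuotientGroup.out_eq' t]
        rfl
      rw [e] at hc'
      rw [← smul_mul_assoc, ← hc']
      refine LinearMap.ext fun v => Subtype.ext (Subtype.ext ?_)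
      rw [Module.End.mul_apply, hx1v, Module.End.mul_apply]
      show (T ^ p ^ (j₁ + j₂)) (ρ (yo : Q) ((v : V) : W)) =
        ρ ((sS yo : S) : Q) (((x1 v : W1) : V) : W)
      rw [hx1v, ← Module.End.mul_apply, hTpow, hsS]
      rfl)
    Rep' (fun t => by
      induction t using QuotientGroup.induction_on with
      | _ y =>
        obtain ⟨u, hu, huS, i, hi⟩ := hRep y y.2
        refine ⟨((⟨u, huS⟩ : S) : S ⧸ RS), Finset.mem_image.2 ⟨⟨u, huS⟩,
          Finset.mem_subtype.2 hu, rfl⟩, i, ?_⟩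
        rw [show (⇑sT)^[i] ((⟨u, huS⟩ : S) : S ⧸ RS) =
          (((sT : MulAut (S ⧸ RS)) ^ i) ((⟨u, huS⟩ : S) : S ⧸ RS)) from
            (H21.aut_pow_apply (sT : MulAut (S ⧸ RS)) i _).symm,
          congr_pow_apply sS hmap, QuotientGroup.eq, hRS', Subgroup.mem_subgroupOf,
          Subgroup.coe_mul, Subgroup.coe_inv, restrict_pow_apply σ₂ sS hsS]
        exact hi)
  have hcard : Rep'.card ≤ Rep.card := Finset.card_image_le.trans
    ((Finset.card_subtype _ _).le.trans (Finset.card_filter_le _ _))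
  refine ⟨d, ?_, hd1.trans (Nat.mul_le_mul_left _ hcard), hd2.trans hcard⟩
  rw [← hd, ← Nat.card_eq_fintype_card]
  rfl

end Cfsg.Agent.H84.Shult
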